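import Mathlib

/-!
Matrices of conjugations on the coordinates.
-/

set_option autoImplicit false

namespace Cfsg.Lib.StdWreath.MTwentyFour

/-- Pool elements with their matrices. -/
def mV : List (ℕ × List ℕ) := [(0, [10, 12, 15, 1]), (1, [1, 15, 13, 7]), (14, [1, 2, 13, 8]), (15, [1, 2, 4, 9]), (16, [2, 1, 7, 11]), (17, [2, 1, 15, 8]), (21, [8, 11, 4, 1]), (22, [12, 15, 4, 5]), (23, [6, 5, 4, 15]), (24, [13, 14, 4, 5]), (25, [7, 4, 6, 11]), (26, [5, 6, 4, 15]), (37, [2, 3, 10, 7]), (38, [1, 3, 11, 13]), (65, [1, 2, 4, 8]), (66, [14, 12, 9, 1]), (67, [9, 10, 4, 11]), (68, [15, 11, 8, 5]), (69, [11, 7, 3, 14]), (70, [14, 3, 9, 1]), (71, [8, 14, 5, 9]), (72, [6, 9, 7, 10]), (73, [1, 6, 11, 14]), (74, [11, 3, 12, 5]), (75, [1, 13, 6, 14]), (76, [10, 2, 3, 14]), (77, [8, 7, 10, 11]), (78, [5, 6, 7, 10]), (79, [5, 4, 2, 15]), (80, [10, 11, 15, 6]), (81, [11, 10, 12, 15]),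 (82, [3, 11, 4, 2]), (83, [4, 1, 9, 6]), (84, [2, 11, 6, 7]), (85, [1, 11, 8, 5]), (86, [15, 1, 13, 9]), (87, [1, 12, 3, 9]), (88, [7, 3, 12, 14])]

/-- Pool elements with their matrices. -/
def mU : List (ℕ × List ℕ) := [(2, [60, 24, 44, 56, 43, 29]), (3, [37, 63, 19, 34, 17, 50]), (14, [1, 2, 19, 49, 7, 14]), (15, [1, 2, 4, 8, 16, 32]), (16, [2, 1, 17, 35, 6, 11]), (17, [2, 1, 4, 12, 16, 48]), (37, [2, 3, 17, 50, 13, 11]), (38, [1, 3, 17, 35, 11, 13])]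

/-- Pool elements with their matrices. -/
def mL : List (ℕ × List ℕ) := [(37, [2, 3]), (38, [1, 3])]

end Cfsg.Lib.StdWreath.MTwentyFour
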